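import Cfsg.Agent.Lib.FormRep.Unitary
import Cfsg.Agent.S2495

/-!
Representations with known determinant, and arithmetic for the half torus of `PSU_n(q)`.
-/

set_option autoImplicit false
set_option linter.unusedSectionVars false

namespace CfsgLib.UnitaryHalfTorus

open Module CfsgLib.FormRep
open scoped Matrix

variable {F : Type*} [Field F]

/-- A representation compatible with the unitary adjoint whose determinant is the norm. -/
theorem exists_rep {R : Type*} [CommRing R] [Algebra F R] [FiniteDimensional F R] [Finite F]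
    {σ : F ≃+* F} (hσ : ∀ x, σ (σ x) = x) (hne : σ ≠ RingEquiv.refl F) {n : ℕ}
    (D : Dat σ 1 R) (hdim : finrank F R = n) :
    ∃ Φ : R →ₐ[F] Matrix (Fin n) (Fin n) F, Function.Injective Φ ∧
      (∀ a, (adjU σ hσ (Fin n)).ad (Φ a) = Φ (D.bar a)) ∧ ∀ a, (Φ a).det = Algebra.norm F a := by
  let B : R →ₛₗ[σ.toRingHom] R →ₗ[F] F :=
    LinearMap.mk₂'ₛₗ σ.toRingHom (RingHom.id F) (fun x y => D.func (D.bar x * y))
      (fun x x' y => by simp [add_mul]) (fun c x y => by simp [D.bar_smul])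
      (fun x y y' => by simp [mul_add]) (fun c x y => by simp)
  have hS : ∀ x y, σ.toRingHom (B x y) = B y x := fun x y => by
    show σ (D.func (D.bar x * y)) = D.func (D.bar y * x)
    rw [show D.bar y * x = D.bar (D.bar x * y) by rw [map_mul, D.bar_bar, mul_comm],
      D.func_bar, one_mul]
  obtain ⟨b₀, hb₀⟩ := Forms.exists_orthonormal_basis σ.toRingHom
    (fun h => hne (RingEquiv.ext fun x => RingHom.congr_fun h x)) hσ B hS
    (fun v hv => by simpa using congrArg D.bar (D.nondeg _ fun r => hv r))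
  subst hdim
  refine ⟨Algebra.leftMulMatrix b₀, Algebra.leftMulMatrix_injective b₀, fun a => ?_,
    fun a => (Algebra.norm_eq_matrix_det b₀ a).symm⟩
  have key : ∀ (a : R) i j, Algebra.leftMulMatrix b₀ a i j = B (b₀ i) (a * b₀ j) := fun a i j => by
    rw [Algebra.leftMulMatrix_eq_repr_mul]
    conv_rhs => rw [← b₀.sum_repr (a * b₀ j), map_sum]
    simp only [map_smul, smul_eq_mul, hb₀, mul_ite, mul_one, mul_zero, Finset.sum_ite_eq,
      Finset.mem_univ, if_true]
  ext i j
  show σ (Algebra.leftMulMatrix b₀ a j i) = Algebra.leftMulMatrix b₀ (D.bar a) i j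
  rw [key, key]
  refine (hS _ _).trans ?_
  show D.func (D.bar (a * b₀ i) * b₀ j) = D.func (D.bar (b₀ i) * (D.bar a * b₀ j))
  rw [map_mul D.bar a, mul_comm (D.bar a), mul_assoc]

theorem norm_pair {R S : Type*} [CommRing R] [Algebra F R] [CommRing S] [Algebra F S]
    [FiniteDimensional F R] [FiniteDimensional F S] (a : R) (b : S) :
    Algebra.norm F ((a, b) : R × S) = Algebra.norm F a * Algebra.norm F b := by
  rw [Algebra.norm_apply, Algebra.norm_apply, Algebra.norm_apply,
    show Algebra.lmul F (R × S) (a, b) = (Algebra.lmul F R a).prodMap (Algebra.lmul F S b) from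
      LinearMap.ext fun v => rfl, LinearMap.det_prodMap]

theorem pow_sq_mod (Q : ℤ) (m : ℕ) :
    ∃ t : ℤ, (Q - 1) ^ m = (-1) ^ m * (1 - m * Q) + t * Q ^ 2 := by
  induction m with
  | zero => exact ⟨0, by simp⟩
  | succ m ih =>
    obtain ⟨t, ht⟩ := ih
    refine ⟨t * (Q - 1) - (-1) ^ m * m, ?_⟩
    rw [pow_succ, ht]
    push_cast
    ring

/-- The element order under discussion. -/
def halfOrder (q m : ℕ) : ℕ := if Even m then q ^ m + 1 else q ^ m - 1

theorem factor {q m : ℕ} (hq : 1 ≤ q) :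
    ∃ S : ℕ, q ^ (2 * m) - 1 = (q + 1) * (halfOrder q m * S) ∧
      ∀ d, d ∣ q + 1 → (d ∣ S ↔ d ∣ m) := by
  set N' := if Even m then q ^ m - 1 else q ^ m + 1
  have hz : (N' : ℤ) = (q : ℤ) ^ m - (-1) ^ m := by
    rcases Nat.even_or_odd m with he | ho
    · simp only [N', if_pos he, he.neg_one_pow]
      rw [Nat.cast_sub (Nat.one_le_pow _ _ hq)]
      push_cast; ring
    · simp only [N', if_neg (Nat.not_even_iff_odd.2 ho), ho.neg_one_pow]
      push_cast; ring
  obtain ⟨t, ht⟩ := pow_sq_mod ((q : ℤ) + 1) m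
  rw [add_sub_cancel_right] at ht
  have hN : (N' : ℤ) = ((q : ℤ) + 1) * (t * ((q : ℤ) + 1) - (-1) ^ m * m) := by
    rw [hz, ht]; ring
  obtain ⟨S, hS⟩ : q + 1 ∣ N' := by
    rw [← Int.natCast_dvd_natCast, Nat.cast_succ]
    exact Dvd.intro _ hN.symm
  refine ⟨S, ?_, fun d hd => ?_⟩
  · rw [← mul_assoc, mul_comm (q + 1), mul_assoc, ← hS, two_mul, pow_add]
    simp only [halfOrder, N']
    have h1 : q ^ m * q ^ m - 1 = (q ^ m + 1) * (q ^ m - 1) := by
      rw [← Nat.sq_sub_sq]; ring_nf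
    split_ifs
    · exact h1
    · rw [h1, mul_comm]
  · have hS' : (S : ℤ) = t * ((q : ℤ) + 1) - (-1) ^ m * m := by
      refine mul_left_cancel₀ (a := (q : ℤ) + 1) (by omega) ?_
      rw [← hN, hS]; push_cast; ring
    obtain ⟨c, hc⟩ := hd
    have hc' : ((q : ℤ) + 1) = (d : ℤ) * c := by exact_mod_cast hc
    rw [← Int.natCast_dvd_natCast, ← Int.natCast_dvd_natCast (n := m), hS', hc',
      dvd_sub_right ((dvd_mul_right (d : ℤ) c).mul_left t)]
    rcases neg_one_pow_eq_or ℤ m with h | h <;> simp [h]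

theorem gcd_criterion {q m : ℕ} (hq : Odd q) (hm : 1 ≤ m) :
    Nat.gcd (2 * m) (q + 1) ∣ m ↔ padicValNat 2 (q + 1) < padicValNat 2 (2 * m) := by
  have h := (Cfsg.Agent.S2495.arith_facts (q + 2) m (by have := hq.pos; omega)
    (by rw [Nat.odd_add]; simp [hq]) hm).2.2
  simpa using h

end CfsgLib.UnitaryHalfTorus
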