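import Cfsg.Agent.Lib.UnitaryHalfTorus.Basic
import Cfsg.Agent.Lib.NumberTheory.Zsigmondy
import Cfsg.Agent.Lib.Classical.PrimeOrderCount

/-!
`q ^ (n / 2) + (-1) ^ (n / 2)` as an element order of `PSU_n(q)`.
-/

set_option autoImplicit false
set_option linter.unusedSectionVars false
set_option linter.style.haveILetI false

namespace CfsgLib.UnitaryHalfTorus

open Polynomial Module CfsgLib.FormRep

variable {F : Type*} [Field F] [Fintype F] {q m : ℕ}

theorem exists_sigma (p : ℕ) [Fact p.Prime] [CharP F p] (a : ℕ) (hqa : q = p ^ a) (hq : 2 ≤ q)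
    (hF : Fintype.card F = q ^ 2) :
    ∃ σ : F ≃+* F, (∀ c, σ c = c ^ q) ∧ (∀ c, σ (σ c) = c) ∧ σ ≠ RingEquiv.refl F := by
  obtain ⟨σ, hσp⟩ := exists_powEquiv (F := F) F p Fact.out a
  have hσq : ∀ c, σ c = c ^ q := fun c => by rw [hqa]; exact hσp c
  refine ⟨σ, hσq, fun c => by rw [hσq, hσq, ← pow_mul, ← sq, ← hF, FiniteField.pow_card], fun h => ?_⟩
  obtain ⟨u, hu⟩ := IsCyclic.exists_generator (α := Fˣ)
  have h1 : (u : F) ^ q = u := by rw [← hσq, h]; rfl
  have h3 : u ^ (q - 1) = 1 := by
    refine Units.ext (mul_right_cancel₀ u.ne_zero ?_)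
    rw [Units.val_pow_eq_pow_val, ← pow_succ, Nat.sub_add_cancel (by omega), h1, Units.val_one,
      one_mul]
  have h4 := Nat.le_of_dvd (by omega) (orderOf_dvd_of_pow_eq_one h3)
  rw [orderOf_eq_card_of_forall_mem_zpowers hu, Nat.card_units, Nat.card_eq_fintype_card, hF] at h4
  have : 2 * q ≤ q ^ 2 := by rw [sq]; exact Nat.mul_le_mul_right q hq
  omega

/-- The primitive prime divisor of the element order. -/
theorem exists_ppd (hq : 3 ≤ q) (hm : 2 ≤ m) :
    ∃ r : ℕ, r.Prime ∧ r ∣ halfOrder q m ∧ r ≠ 2 ∧ ¬ r ∣ q ∧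
      orderOf ((q : ℕ) : ZMod r) = if Even m then 2 * m else m := by
  set e := if Even m then 2 * m else m
  have he : 2 < e := by
    rcases Nat.even_or_odd m with h | h
    · simp only [e, if_pos h]; omega
    · simp only [e, if_neg (Nat.not_even_iff_odd.2 h)]
      obtain ⟨j, hj⟩ := h; omega
  obtain ⟨r, hr, hd, hprim⟩ := NumberTheory.exists_primitive_prime (a := q) (n := e) (by omega)
    (by omega) (fun h => by omega) (fun h => by omega)
  haveI := Fact.mk hr
  have hnd : ¬ r ∣ q := fun h => by
    have h1 : r ∣ q ^ e := dvd_pow h (by omega)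
    have h2 := Nat.dvd_sub h1 hd
    rw [Nat.sub_sub_self (Nat.one_le_pow _ _ (by omega))] at h2
    exact hr.not_dvd_one h2
  have hcast : ∀ k, ((q : ℕ) : ZMod r) ^ k = 1 ↔ r ∣ q ^ k - 1 := fun k => by
    rw [← ZMod.natCast_eq_zero_iff, Nat.cast_sub (Nat.one_le_pow _ _ (by omega)), sub_eq_zero,
      Nat.cast_pow, Nat.cast_one]
  have hord : orderOf ((q : ℕ) : ZMod r) = e := by
    rw [orderOf_eq_iff (by omega)]
    exact ⟨(hcast e).2 hd, fun k hk hk0 h => hprim k hk0 hk ((hcast k).1 h)⟩
  refine ⟨r, hr, ?_, fun h => ?_, hnd, hord⟩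
  · rcases Nat.even_or_odd m with h | h
    · simp only [e, if_pos h] at hd hprim
      rw [halfOrder, if_pos h]
      have h2 : q ^ (2 * m) - 1 = (q ^ m + 1) * (q ^ m - 1) := by
        rw [← Nat.sq_sub_sq]; ring_nf
      rw [h2] at hd
      exact (hr.dvd_mul.1 hd).resolve_right (hprim m (by omega) (by omega))
    · simp only [e, if_neg (Nat.not_even_iff_odd.2 h)] at hd
      rwa [halfOrder, if_neg (Nat.not_even_iff_odd.2 h)]
  · subst h
    have h3 := ZMod.orderOf_dvd_card_sub_one (p := 2) (a := ((q : ℕ) : ZMod 2))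
      (by rw [Ne, ZMod.natCast_eq_zero_iff]; exact hnd)
    rw [hord] at h3
    have := Nat.le_of_dvd one_pos h3
    omega

/-- A semisimple element whose minimal polynomial is a pair of full degree commutes with no
nontrivial self adjoint idempotent. -/
theorem no_idempotent {ι : Type*} [Fintype ι] [DecidableEq ι] {M : Adj F ι} {A E : Matrix ι ι F}
    (hA : M.ad A * A = 1) {f g : F[X]} (hf : Irreducible f) (hg : Irreducible g) (hfm : f.Monic)
    (hgm : g.Monic) (hga : Associated g (M.cr f)) (hfg : g ≠ f) (hm : minpoly F A = f * g)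
    (hdeg : f.natDegree + g.natDegree = Fintype.card ι) (hE : IsIdempotentElem E) (hE0 : E ≠ 0)
    (hE1 : E ≠ 1) (hEad : M.ad E = E) (hc : Commute A E) : False := by
  classical
  -- the annihilator of an idempotent block is stable
  have key : ∀ E : Matrix ι ι F, IsIdempotentElem E → E ≠ 0 → M.ad E = E → Commute A E →
      f.natDegree + g.natDegree ≤ finrank F (LinearMap.range (Matrix.toLin' E)) := by
    intro E hE hE0 hEad hc
    set T := Matrix.toLin' A
    set U := LinearMap.range (Matrix.toLin' E)
    have hinv : ∀ v ∈ U, T v ∈ U := by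
      rintro _ ⟨v, rfl⟩
      refine ⟨T v, ?_⟩
      show (Matrix.toLin' E ∘ₗ T) v = (T ∘ₗ Matrix.toLin' E) v
      rw [← Matrix.toLin'_mul, ← Matrix.toLin'_mul, hc.eq]
    set TU := T.restrict hinv
    have hae : ∀ P : F[X], (aeval TU P = 0) ↔ aeval A P * E = 0 := by
      intro P
      have h1 : ∀ (u : U), ((aeval TU P u : U) : ι → F) = aeval T P (u : ι → F) := by
        intro u
        induction P using Polynomial.induction_on' generalizing u with
        | add P Q hP hQ => simp [hP, hQ]
        | monomial k c =>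
          simp only [aeval_monomial, Module.End.mul_apply, Module.algebraMap_end_apply,
            SetLike.val_smul]
          congr 1
          induction k generalizing u with
          | zero => rfl
          | succ k ih =>
            rw [pow_succ, pow_succ, Module.End.mul_apply, Module.End.mul_apply, ih]
            rfl
      have h2 : aeval T P = Matrix.toLin' (aeval A P) := by
        rw [show T = Matrix.toLinAlgEquiv' A from rfl, aeval_algHom_apply]; rfl
      constructor
      · intro h
        refine Matrix.toLin'.injective (LinearMap.ext fun v => ?_)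
        rw [map_zero, Matrix.toLin'_mul, LinearMap.comp_apply, ← h2,
          ← h1 ⟨_, LinearMap.mem_range_self _ v⟩, h]
        rfl
      · intro h
        refine LinearMap.ext fun u => Subtype.ext ?_
        obtain ⟨v, hv⟩ := u.2
        rw [h1, ← hv, h2, ← LinearMap.comp_apply, ← Matrix.toLin'_mul, h, map_zero]
        rfl
    have hcP : ∀ P : F[X], Commute (aeval A P) E := by
      intro P
      induction P using Polynomial.induction_on' with
      | add P Q hP hQ =>
        rw [map_add]
        exact Commute.add_left hP hQ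
      | monomial k c =>
        rw [aeval_monomial]
        exact (Algebra.commute_algebraMap_left c E).mul_left (hc.pow_left k)
    have hcr : ∀ P : F[X], aeval A P * E = 0 → aeval A (M.cr P) * E = 0 := by
      intro P h
      have h' := congrArg M.ad h
      rw [M.ad_mul, hEad, M.ad_zero] at h'
      have hcomm : Commute (M.ad (aeval A P)) E := by
        have := congrArg M.ad (hcP P).eq
        rw [M.ad_mul, M.ad_mul, hEad] at this
        exact this.symm
      rw [M.aeval_cr hA, mul_assoc, hcomm.eq, h', mul_zero]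
    set μ := minpoly F TU
    have hμd : ∀ P, aeval A P * E = 0 → μ ∣ P := fun P h => minpoly.dvd F _ ((hae P).2 h)
    have hμ0 : aeval A μ * E = 0 := (hae μ).1 (minpoly.aeval F TU)
    have hμfg : μ ∣ f * g := hμd _ (by rw [← hm, minpoly.aeval, zero_mul])
    have hμm : μ.Monic := minpoly.monic (Algebra.IsIntegral.isIntegral TU)
    suffices h : μ = f * g by
      have hle : μ.natDegree ≤ finrank F U := by
        rw [← LinearMap.charpoly_natDegree TU]
        exact natDegree_le_of_dvd (LinearMap.minpoly_dvd_charpoly TU)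
          (LinearMap.charpoly_monic TU).ne_zero
      rwa [h, hfm.natDegree_mul hgm] at hle
    have hμcr : μ ∣ M.cr μ := hμd _ (hcr μ hμ0)
    have hgf : Associated (M.cr g) f := by
      have hf0 : f.coeff 0 ≠ 0 := fun h => by
        obtain ⟨R, hR⟩ := X_dvd_iff.2 h
        have h1 : A * aeval A (R * g) = 0 := by
          have := minpoly.aeval F A
          rw [hm, hR, mul_assoc, map_mul, aeval_X] at this
          exact this
        have h2 : aeval A (R * g) = 0 := by
          have := congrArg (M.ad A * ·) h1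
          simpa only [← mul_assoc, hA, one_mul, mul_zero] using this
        have hR0 : R ≠ 0 := fun h0 => hf.ne_zero (by rw [hR, h0, mul_zero])
        have h3 := natDegree_le_of_dvd (minpoly.dvd F A h2) (mul_ne_zero hR0 hg.ne_zero)
        rw [hm, hR, natDegree_mul (mul_ne_zero X_ne_zero hR0) hg.ne_zero,
          natDegree_mul X_ne_zero hR0, natDegree_mul hR0 hg.ne_zero, natDegree_X] at h3
        omega
      have := M.cr_associated hga
      rwa [M.cr_cr hf0] at this
    obtain ⟨a, b, ha, hb, hμ⟩ := exists_dvd_and_dvd_of_dvd_mul hμfg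
    rcases hf.dvd_iff.1 ha with h1 | h1 <;> rcases hg.dvd_iff.1 hb with h2 | h2
    · exfalso
      have hu : IsUnit μ := hμ ▸ h1.mul h2
      rw [hμm.isUnit_iff.1 hu, map_one, one_mul] at hμ0
      exact hE0 hμ0
    · exfalso
      have he : μ = g := eq_of_monic_of_associated hμm hgm (hμ ▸ ((associated_unit_mul_left b a h1).trans h2.symm))
      rw [he] at hμcr
      exact hfg (eq_of_monic_of_associated hgm hfm (hg.associated_of_dvd hf (hμcr.trans hgf.dvd)))
    · exfalso
      have he : μ = f := eq_of_monic_of_associated hμm hfm (hμ ▸ ((associated_mul_unit_left a b h2).trans h1.symm))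
      rw [he] at hμcr
      exact hfg.symm (eq_of_monic_of_associated hfm hgm (hf.associated_of_dvd hg (hμcr.trans hga.symm.dvd)))
    · exact eq_of_monic_of_associated hμm (hfm.mul hgm) (hμ ▸ h1.symm.mul_mul h2.symm)
  have h1 := key E hE hE0 hEad hc
  have h2 := key (1 - E) hE.one_sub (fun h => hE1 (sub_eq_zero.1 h).symm)
    (by rw [M.ad_sub, M.ad_one, hEad]) ((Commute.one_right A).sub_right hc)
  have hsum : finrank F (LinearMap.range (Matrix.toLin' E)) +
      finrank F (LinearMap.range (Matrix.toLin' (1 - E))) ≤ Fintype.card ι := by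
    have hdis : LinearMap.range (Matrix.toLin' E) ⊓ LinearMap.range (Matrix.toLin' (1 - E)) = ⊥ := by
      refine (Submodule.eq_bot_iff _).2 ?_
      rintro x ⟨⟨v, rfl⟩, w, hw⟩
      have e1 : Matrix.toLin' E (Matrix.toLin' E v) = Matrix.toLin' E v := by
        rw [← LinearMap.comp_apply, ← Matrix.toLin'_mul, hE.eq]
      rw [← e1, ← hw, ← LinearMap.comp_apply, ← Matrix.toLin'_mul, mul_sub, mul_one, hE.eq, sub_self,
        map_zero, LinearMap.zero_apply]
    have := Submodule.finrank_sup_add_finrank_inf_eq (LinearMap.range (Matrix.toLin' E))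
      (LinearMap.range (Matrix.toLin' (1 - E)))
    rw [hdis, finrank_bot, add_zero] at this
    rw [← this]
    exact (Submodule.finrank_le _).trans (Module.finrank_fintype_fun_eq_card F).le
  have := hf.natDegree_pos
  omega

theorem dvd_quot {q n o d : ℕ} (hq : 1 ≤ q) (hn : Even n) (ho : q ^ n - 1 = (q + 1) * o)
    (hdn : d ∣ n) (hdq : d ∣ q + 1) : d ∣ o := by
  obtain ⟨t, ht⟩ := pow_sq_mod ((q : ℤ) + 1) n
  rw [add_sub_cancel_right, hn.neg_one_pow, one_mul] at ht
  have h1 : ((q : ℤ) + 1) * o = (q : ℤ) ^ n - 1 := by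
    have := congrArg (Nat.cast : ℕ → ℤ) ho
    rw [Nat.cast_sub (Nat.one_le_pow _ _ hq)] at this
    push_cast at this
    linarith
  have h2 : (o : ℤ) = t * ((q : ℤ) + 1) - n := by
    refine mul_left_cancel₀ (a := (q : ℤ) + 1) (by omega) ?_
    rw [h1, ht]; ring
  rw [← Int.natCast_dvd_natCast, h2]
  exact dvd_sub (dvd_mul_of_dvd_right (by exact_mod_cast hdq) t) (Int.natCast_dvd_natCast.2 hdn)

set_option maxHeartbeats 1000000 in
/-- The criterion. -/
theorem halfOrder_iff (p a : ℕ) [Fact p.Prime] [CharP F p] (hqa : q = p ^ a) (hodd : Odd q)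
    (hF : Fintype.card F = q ^ 2) (hm : 2 ≤ m) :
    (∃ z : Cfsg.PSU (2 * m) F q, orderOf z = halfOrder q m) ↔
      padicValNat 2 (q + 1) < padicValNat 2 (2 * m) := by
  classical
  have hp : p.Prime := Fact.out
  have ha : 1 ≤ a := by
    by_contra h
    rw [show a = 0 by omega, pow_zero] at hqa
    have := Fintype.one_lt_card (α := F)
    rw [hF, hqa] at this
    simp at this
  have hq3 : 3 ≤ q := by
    have h2 : 2 ≤ q := hqa ▸ hp.two_le.trans (Nat.le_self_pow (by omega) p)
    obtain ⟨j, hj⟩ := hodd
    omega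
  rw [← gcd_criterion hodd (by omega)]
  set n := 2 * m with hn
  obtain ⟨σ, hσq, hσ, hne⟩ := exists_sigma p a hqa (by omega) hF
  have hne' : Nonempty (Fin n) := ⟨⟨0, by omega⟩⟩
  set W := Unitary.model (n := n) (by omega) hF σ hσq hσ with hW
  set d := Nat.gcd n (q + 1) with hd
  set N := halfOrder q m
  obtain ⟨S, hS, hSd⟩ := factor (q := q) (m := m) (by omega)
  rw [← hn] at hS
  have hdS : d ∣ m ↔ d ∣ S := (hSd d (Nat.gcd_dvd_right _ _)).symm
  have : NeZero m := ⟨by omega⟩
  let L := FiniteField.Extension F p m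
  have hfr : Module.finrank F L = m := FiniteField.finrank_extension F p m
  have : Fintype L := Fintype.ofFinite L
  have hcardL : Fintype.card L = q ^ n := by
    rw [← Nat.card_eq_fintype_card, FiniteField.natCard_extension F p m, Nat.card_eq_fintype_card, hF,
      ← pow_mul]
  obtain ⟨τ, hτ⟩ := exists_powEquiv (F := F) L p hp a
  have hτq : ∀ y : L, τ y = y ^ q := fun y => by rw [hqa]; exact hτ y
  have hτF : ∀ c : F, τ (algebraMap F L c) = algebraMap F L (σ c) := fun c => by
    rw [hτq, hσq, map_pow]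
  obtain ⟨fn, hfn⟩ : ∃ f : L →ₗ[F] F, f 1 ≠ 0 := by
    by_contra hcon
    simp only [not_exists, not_not] at hcon
    exact one_ne_zero ((Module.forall_dual_apply_eq_zero_iff F (1 : L)).1 hcon)
  let D := Dat.hyper (σ := σ) (ε := (1 : F)) hσ (one_mul 1) (map_one σ) τ hτF fn (fun x hx => by
    by_contra h0
    have := hx x⁻¹
    rw [mul_inv_cancel₀ h0] at this
    exact hfn this)
  obtain ⟨Φ, hΦ, hbar, hdet⟩ := exists_rep hσ hne D (n := n) (by
    rw [Module.finrank_prod, hfr]; omega)
  set o := (q ^ n - 1) / (q + 1) with ho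
  have ho' : o = N * S := by rw [ho, hS, Nat.mul_div_cancel_left _ (by omega)]
  have hoS : q ^ n - 1 = (q + 1) * o := by rw [ho', hS]
  have ho0 : 0 < o := by
    have : 1 < q ^ n := Nat.one_lt_pow (by omega) (by omega)
    rcases Nat.eq_zero_or_pos o with h | h
    · rw [h, mul_zero] at hoS; omega
    · exact h
  -- determinants on the torus
  have hdet1 : ∀ x : L, x ≠ 0 → ((Φ (x, (τ x)⁻¹)).det = 1 ↔ x ^ o = 1) := by
    intro x hx
    have hN : algebraMap F L (Algebra.norm F x) = x ^ ((q ^ n - 1) / (q ^ 2 - 1)) := by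
      rw [FiniteField.algebraMap_norm_eq_pow, Nat.card_eq_fintype_card, hcardL,
        Nat.card_eq_fintype_card, hF]
    have hN2 : algebraMap F L (Algebra.norm F (τ x)⁻¹) =
        ((τ x)⁻¹) ^ ((q ^ n - 1) / (q ^ 2 - 1)) := by
      rw [FiniteField.algebraMap_norm_eq_pow, Nat.card_eq_fintype_card, hcardL,
        Nat.card_eq_fintype_card, hF]
    obtain ⟨e, he⟩ : q ^ 2 - 1 ∣ q ^ n - 1 := by
      rw [hn, pow_mul]; simpa using Nat.sub_dvd_pow_sub_pow (q ^ 2) 1 m
    have hq2 : q ^ 2 - 1 = (q + 1) * (q - 1) := by rw [← Nat.sq_sub_sq, one_pow]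
    have hq20 : 0 < q ^ 2 - 1 := by rw [hq2]; exact Nat.mul_pos (by omega) (by omega)
    have hoe : o = (q - 1) * e := by
      refine Nat.eq_of_mul_eq_mul_left (by omega : 0 < q + 1) ?_
      rw [← hoS, ← mul_assoc, ← hq2, he]
    rw [← (algebraMap F L).injective.eq_iff, hdet, norm_pair, map_mul, map_one, hN, hN2, he,
      Nat.mul_div_cancel_left _ hq20, hoe, hτq]
    have hxe : x ^ e ≠ 0 := pow_ne_zero _ hx
    rw [inv_pow, ← pow_mul, mul_comm (q - 1), pow_mul x e, mul_comm q, pow_mul x e,
      mul_inv_eq_one₀ (pow_ne_zero _ hxe)]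
    constructor
    · intro h
      refine mul_right_cancel₀ hxe ?_
      rw [one_mul, ← pow_succ, Nat.sub_add_cancel (by omega), ← h]
    · intro h
      conv_rhs => rw [← Nat.sub_add_cancel (show 1 ≤ q by omega), pow_succ, h, one_mul]
  have hu : ∀ x : L, x ≠ 0 → D.bar (x, (τ x)⁻¹) * (x, (τ x)⁻¹) = 1 := fun x hx0 => by
    refine Prod.ext ?_ ?_
    · show τ.symm (τ x)⁻¹ * x = 1
      rw [map_inv₀, RingEquiv.symm_apply_apply, inv_mul_cancel₀ hx0]
    · show τ x * (τ x)⁻¹ = 1
      exact mul_inv_cancel₀ (by simpa using hx0)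
  have hq1 : q + 1 ∣ Fintype.card F - 1 := by
    rw [hF]; exact ⟨q - 1, by rw [← Nat.sq_sub_sq, one_pow]⟩
  -- scalar powers
  have hscal : ∀ (t : Cfsg.SU n F q) (x : L), x ≠ 0 → W.toMat t = Φ (x, (τ x)⁻¹) → ∀ k : ℕ,
      (Model.proj t ^ k = 1 ↔ x ^ (k * d) = 1) := by
    intro t x hx0 ht k
    rw [← map_pow, W.proj_eq_one_iff, map_pow, ht, ← map_pow]
    constructor
    · rintro ⟨c, hc⟩
      have h2 : ((x, (τ x)⁻¹) : L × L) ^ k = algebraMap F (L × L) c :=
        hΦ (by rw [hc, AlgHom.commutes, Algebra.algebraMap_eq_smul_one])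
      have e1 : x ^ k = algebraMap F L c := congrArg Prod.fst h2
      have e2 : (τ x)⁻¹ ^ k = algebraMap F L c := congrArg Prod.snd h2
      have hc0 : c ≠ 0 := fun h => pow_ne_zero k hx0 (by rw [e1, h, map_zero])
      have hcq : c ^ (q + 1) = 1 := by
        refine (algebraMap F L).injective ?_
        rw [map_one, map_pow, pow_succ]
        nth_rw 2 [← e2]
        rw [← e1, ← hτq, inv_pow, ← map_pow, mul_inv_cancel₀]
        simpa using pow_ne_zero k hx0
      have hcn : c ^ n = 1 := by
        have h3 := (W.isom (t ^ k)).2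
        rw [map_pow, ht, ← map_pow, hc, Matrix.det_smul, Matrix.det_one, mul_one,
          Fintype.card_fin] at h3
        exact h3
      have hcd : c ^ d = 1 := pow_gcd_eq_one.2 ⟨hcn, hcq⟩
      rw [pow_mul, e1, ← map_pow, hcd, map_one]
    · intro h
      have hcq : (x ^ k) ^ (q + 1) = 1 := by
        obtain ⟨j, hj⟩ : d ∣ q + 1 := Nat.gcd_dvd_right _ _
        rw [hj, pow_mul, ← pow_mul x, h, one_pow]
      obtain ⟨c, hc⟩ : ∃ c : F, algebraMap F L c = x ^ k := by
        obtain ⟨u, huo⟩ := IsCyclic.exists_generator (α := Fˣ)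
        obtain ⟨w, hw⟩ := exists_order_of_dvd u (orderOf_pos u)
          (by rw [orderOf_eq_card_of_forall_mem_zpowers huo, Nat.card_units,
            Nat.card_eq_fintype_card]; exact hq1 : q + 1 ∣ orderOf u)
        have hprim : IsPrimitiveRoot (algebraMap F L (w : F)) (q + 1) := by
          refine IsPrimitiveRoot.map_of_injective ?_ (algebraMap F L).injective
          rw [← hw, ← orderOf_units]
          exact IsPrimitiveRoot.orderOf (w : F)
        obtain ⟨i, -, hi⟩ := hprim.eq_pow_of_pow_eq_one hcq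
        exact ⟨(w : F) ^ i, by rw [map_pow, hi]⟩
      refine ⟨c, ?_⟩
      rw [show ((x, (τ x)⁻¹) : L × L) ^ k = algebraMap F (L × L) c from Prod.ext hc.symm ?_,
        AlgHom.commutes, Algebra.algebraMap_eq_smul_one]
      show (τ x)⁻¹ ^ k = algebraMap F L c
      rw [hc, inv_pow, ← map_pow, hτq]
      refine (eq_inv_of_mul_eq_one_left ?_).symm
      rw [← pow_succ', hcq]
  have hdo : d ∣ o := dvd_quot (q := q) (n := n) (by omega) (by rw [hn]; exact even_two_mul m) hoS
    (Nat.gcd_dvd_left _ _) (Nat.gcd_dvd_right _ _)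
  constructor
  · rintro ⟨z, hz⟩
    obtain ⟨g, rfl⟩ := QuotientGroup.mk'_surjective _ z
    obtain ⟨r, hr, hrN, hr2, hrq, hrord⟩ := exists_ppd hq3 hm
    haveI := Fact.mk hr
    have hNp : ¬ p ∣ N := by
      intro h
      have hpq : p ∣ q ^ m := dvd_pow (hqa ▸ dvd_pow_self p (by omega)) (by omega)
      simp only [N, halfOrder] at h
      split_ifs at h
      · exact hp.not_dvd_one ((Nat.dvd_add_right hpq).1 h)
      · have := Nat.dvd_sub hpq h
        rw [Nat.sub_sub_self (Nat.one_le_pow _ _ (by omega))] at this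
        exact hp.not_dvd_one this
    rcases W.dichotomy p hp g with ⟨E, h1, h2, h3, h4, h5⟩ | ⟨sh, hs, -⟩
    · exfalso
      have hro : r ∣ orderOf g := (hz ▸ hrN : r ∣ orderOf (Model.proj g)).trans (orderOf_map_dvd _ g)
      set A := W.toMat (g ^ (orderOf g / r)) with hAdef
      have hgo : orderOf (g ^ (orderOf g / r)) = r := orderOf_pow_orderOf_div (orderOf_pos g).ne' hro
      have hoA : orderOf A = r := by rw [hAdef, orderOf_injective W.toMat W.inj, hgo]
      have hA : (adjU σ hσ (Fin n)).ad A * A = 1 := (W.isom _).1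
      have hcE : Commute A E := by rw [hAdef, map_pow]; exact h5.pow_left _
      have hrp : r ≠ p := fun h => hrq (h ▸ hqa ▸ dvd_pow_self p (by omega))
      have hsep : (X ^ r - 1 : F[X]).Separable := X_pow_sub_one_separable_iff.2 (fun h => by
        rw [CharP.cast_eq_zero_iff F p] at h
        exact hrp ((Nat.prime_dvd_prime_iff_eq hp hr).1 h).symm)
      set μ := minpoly F A with hμ
      have hμd : μ ∣ X ^ r - 1 := minpoly.dvd F A (by
        rw [map_sub, map_pow, aeval_X, map_one, ← hoA, pow_orderOf_eq_one, sub_self])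
      -- an irreducible factor other than X - 1
      obtain ⟨f, hfm, hf, hfμ, hf1⟩ : ∃ f : F[X], f.Monic ∧ Irreducible f ∧ f ∣ μ ∧ f ≠ X - 1 := by
        by_contra hno
        push Not at hno
        have hμm : μ.Monic := minpoly.monic (Matrix.isIntegral A)
        have hall : ∀ P ∈ UniqueFactorizationMonoid.normalizedFactors μ, P = X - 1 := fun P hP =>
          hno P (Classical.PrimeOrderCount.normalizedFactor_monic hμm.ne_zero hP)
            (UniqueFactorizationMonoid.irreducible_of_normalized_factor P hP)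
            (UniqueFactorizationMonoid.dvd_of_mem_normalizedFactors hP)
        have hdvd : μ ∣ X - 1 := by
          refine (hsep.squarefree.squarefree_of_dvd hμd).isRadical
            (Multiset.card (UniqueFactorizationMonoid.normalizedFactors μ)) _ ?_
          have hprod := UniqueFactorizationMonoid.prod_normalizedFactors (a := μ) hμm.ne_zero
          rw [Multiset.eq_replicate_of_mem hall, Multiset.prod_replicate] at hprod
          exact hprod.symm.dvd
        have h4 : aeval A (X - 1 : F[X]) = 0 := aeval_eq_zero_of_dvd_aeval_eq_zero hdvd (minpoly.aeval F A)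
        rw [map_sub, aeval_X, map_one, sub_eq_zero] at h4
        exact hr.ne_one (hoA ▸ orderOf_eq_one_iff.2 h4)
      have hnr : p.Coprime r := (Nat.coprime_primes hp hr).mpr (Ne.symm hrp)
      have hq2 : orderOf (((q : ℕ) : ZMod r) ^ 2) = m := by
        rcases Nat.even_or_odd m with hme | hmo
        · rw [if_pos hme] at hrord
          rw [orderOf_pow' _ two_ne_zero, hrord, Nat.gcd_eq_right (dvd_mul_right 2 m)]
          omega
        · rw [if_neg (Nat.not_even_iff_odd.2 hmo)] at hrord
          rw [Nat.Coprime.orderOf_pow, hrord]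
          rw [hrord]
          exact Nat.coprime_two_right.2 hmo
      have hfdeg : f.natDegree = m := by
        have h1 : f ∣ X ^ r - 1 := hfμ.trans hμd
        rw [← cyclotomic_prime_mul_X_sub_one F r] at h1
        rcases hf.prime.dvd_or_dvd h1 with h | h
        · have hK : Fintype.card F = p ^ (2 * a) := by rw [hF, hqa, ← pow_mul, mul_comm]
          have hu := natDegree_of_mem_normalizedFactors_cyclotomic (P := f) hK hnr (by
            rw [UniqueFactorizationMonoid.mem_normalizedFactors_iff' (cyclotomic_ne_zero r F)]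
            exact ⟨hf, hfm.normalize_eq_self, h⟩)
          rw [hu, ← orderOf_units, ZMod.coe_unitOfCoprime, ← hq2, mul_comm, pow_mul, ← hqa,
            Nat.cast_pow]
        · exact absurd (eq_of_monic_of_associated hfm (by simpa using monic_X_sub_C (1 : F))
            (hf.associated_of_dvd (by simpa using irreducible_X_sub_C (1 : F)) h)) hf1
      have hμ0 : μ.coeff 0 ≠ 0 := fun h => by
        obtain ⟨R, hR⟩ := hμd
        have h' := congrArg (fun P : F[X] => P.coeff 0) hR
        simp [h, mul_coeff_zero, hr.ne_zero.symm, coeff_X_pow] at h'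
      have hf0 : f.coeff 0 ≠ 0 := fun h => by
        obtain ⟨R, hR⟩ := hfμ
        exact hμ0 (by rw [hR, mul_coeff_zero, h, zero_mul])
      set M := adjU σ hσ (Fin n) with hM
      set g' := normalize (M.cr f) with hg'
      have hga : Associated g' (M.cr f) := normalize_associated _
      have hgi : Irreducible g' := hga.symm.irreducible (M.cr_irreducible hf hf0)
      have hgm : g'.Monic := monic_normalize (M.cr_ne_zero hf.ne_zero)
      have hgdeg : g'.natDegree = f.natDegree := by
        rw [Polynomial.natDegree_eq_of_degree_eq (degree_eq_degree_of_associated hga),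
          M.natDegree_cr hf0]
      have hgf : g' ≠ f := fun he => by
        let sh' : M.Shape := ⟨f, f, g', hfm, hgm, hf, hgi, hf0, hga, hgdeg, Or.inl ⟨he, rfl⟩⟩
        obtain ⟨x, hx⟩ := exists_root_of_dvd (L := L) hf (by rw [hfr, hfdeg])
        obtain ⟨hod, hpow⟩ := sh'.unitary_root he hF hσq τ.toRingHom hτq hx
        change Odd f.natDegree at hod
        rw [hfdeg] at hod
        have h1 : x ^ q ^ (f.natDegree * 1) * x = 1 := hpow 1 odd_one
        rw [hfdeg, mul_one] at h1
        have hxr : x ^ r = 1 := by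
          have := aeval_eq_zero_of_dvd_aeval_eq_zero (hfμ.trans hμd) hx
          simpa [sub_eq_zero] using this
        have hxo : orderOf x = r := orderOf_eq_prime hxr fun hx1 => by
          rw [hx1, ← map_one (algebraMap F L), aeval_algebraMap_apply, map_eq_zero] at hx
          have := degree_eq_one_of_irreducible_of_root hf hx
          rw [degree_eq_natDegree hf.ne_zero, hfdeg] at this
          norm_cast at this
          omega
        have hd1 : r ∣ q ^ m + 1 := hxo ▸ orderOf_dvd_of_pow_eq_one (by rw [pow_succ, h1])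
        have hd2 : r ∣ q ^ m - 1 := by
          simpa [N, halfOrder, Nat.not_even_iff_odd.2 hod] using hrN
        have := Nat.dvd_sub hd1 hd2
        have h2 := Nat.one_le_pow m q (by omega)
        rw [show q ^ m + 1 - (q ^ m - 1) = 2 by omega] at this
        exact hr2 ((Nat.prime_dvd_prime_iff_eq hr Nat.prime_two).1 this)
      have hgμ : g' ∣ μ := by
        obtain ⟨R, hR⟩ := hfμ
        refine hga.dvd.trans ((Dvd.intro (M.cr R) ?_).trans (M.minpoly_cr hA hμ0).symm.dvd)
        rw [← hμ, hR, M.cr_mul]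
      have hprod : μ = f * g' := by
        refine eq_of_monic_of_dvd_of_natDegree_le (hfm.mul hgm) (minpoly.monic (Matrix.isIntegral A)) ?_ ?_
        · refine IsCoprime.mul_dvd ?_ hfμ hgμ
          exact hf.coprime_iff_not_dvd.2 fun h => hgf (eq_of_monic_of_associated hgm hfm
            (hf.associated_of_dvd hgi h).symm)
        · rw [hfm.natDegree_mul hgm, hgdeg, hfdeg]
          have hle := natDegree_le_of_dvd (Matrix.minpoly_dvd_charpoly A) (Matrix.charpoly_monic A).ne_zero
          rw [Matrix.charpoly_natDegree_eq_dim, Fintype.card_fin, ← hμ] at hle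
          omega
      exact no_idempotent hA hf hgi hfm hgm hga hgf hprod
        (by rw [hgdeg, hfdeg, Fintype.card_fin]; omega) h1 h2 h3 h4 hcE
    · have hNN : orderOf (Model.proj (g ^ ordProj[p] (orderOf g))) = N := by
        rw [Model.orderOf_proj_pow p hp g]
        have hz' : orderOf (Model.proj g) = N := hz
        rw [hz', Nat.factorization_eq_zero_of_not_dvd hNp, pow_zero, Nat.div_one]
      obtain ⟨k, hk⟩ := sh.charpoly_eq (W.isom _).1 hs
      have hdeg := congrArg natDegree hk
      rw [Matrix.charpoly_natDegree_eq_dim, Fintype.card_fin, natDegree_pow] at hdeg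
      have hdl : sh.f.natDegree ∣ m := by
        by_cases he : sh.g = sh.f
        · obtain ⟨x, hx⟩ : ∃ x : AdjoinRoot sh.f, aeval x sh.f = 0 :=
            ⟨AdjoinRoot.root sh.f, by rw [AdjoinRoot.aeval_eq, AdjoinRoot.mk_self]⟩
          have := Fact.mk sh.f_irr
          have : Module.Finite F (AdjoinRoot sh.f) := (AdjoinRoot.powerBasis sh.f_irr.ne_zero).finite
          have : Finite (AdjoinRoot sh.f) := Module.finite_of_finite F
          obtain ⟨τ', hτ'⟩ := exists_powEquiv (F := F) (AdjoinRoot sh.f) p hp a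
          have hod := (sh.unitary_root he hF hσq τ'.toRingHom (fun y => by rw [hqa]; exact hτ' y) hx).1
          rcases sh.eq with ⟨-, e⟩ | ⟨e, -⟩
          · rw [e] at hdeg
            exact (Nat.coprime_two_right.2 hod).dvd_of_dvd_mul_left (Dvd.intro_left k hdeg.symm)
          · exact absurd he e
        · rcases sh.eq with ⟨e, -⟩ | ⟨-, e⟩
          · exact absurd e he
          · rw [e, sh.f_monic.natDegree_mul sh.g_monic, sh.deg] at hdeg
            refine ⟨k, Nat.eq_of_mul_eq_mul_left two_pos ?_⟩
            linarith [hdeg]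
      obtain ⟨x, hx⟩ := exists_root_of_dvd (L := L) sh.f_irr (hfr.symm ▸ hdl)
      have hx0 : x ≠ 0 := by
        rintro rfl
        apply sh.f0
        rwa [aeval_def, eval₂_at_zero, map_eq_zero] at hx
      obtain ⟨t, ht, hto⟩ := W.exists_of_shape Φ hΦ D.bar hbar sh hs (hu x hx0)
        (sh.minpoly_pair τ.toRingHom hτF hx)
      have hxo : x ^ o = 1 := (hdet1 x hx0).1 (by rw [← ht]; exact (W.isom t).2)
      obtain ⟨i, hi⟩ : d ∣ o := by
        have h0 := hdo
        exact h0
      have hdiv : N ∣ i := by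
        rw [← hNN, hto]
        refine orderOf_dvd_of_pow_eq_one ((hscal t x hx0 ht i).2 ?_)
        rw [mul_comm, ← hi, hxo]
      rw [hdS]
      obtain ⟨i', rfl⟩ := hdiv
      have hN0 : 0 < N := Nat.pos_of_ne_zero fun h => hNp (by rw [h]; exact dvd_zero p)
      refine ⟨i', Nat.eq_of_mul_eq_mul_left hN0 ?_⟩
      rw [← ho', hi]; ring
  · intro hdm
    obtain ⟨i, hi⟩ := hdS.1 hdm
    obtain ⟨γ, hγ⟩ := IsCyclic.exists_generator (α := Lˣ)
    have hoγ : orderOf γ = (q + 1) * o := by
      rw [orderOf_eq_card_of_forall_mem_zpowers hγ, Nat.card_units, Nat.card_eq_fintype_card, hcardL,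
        hoS]
    set x : L := ((γ ^ (q + 1) : Lˣ) : L)
    have hxo : orderOf x = o := by
      rw [orderOf_units, orderOf_pow' _ (Nat.succ_ne_zero q), hoγ,
        Nat.gcd_eq_right (dvd_mul_right _ _), Nat.mul_div_cancel_left _ (by omega)]
    have hx0 : x ≠ 0 := Units.ne_zero _
    obtain ⟨t, ht⟩ := W.exists_of_rep Φ D.bar hbar (hu x hx0)
      ((hdet1 x hx0).2 (by rw [← hxo, pow_orderOf_eq_one]))
    have hpt : orderOf (Model.proj t) = N * i := by
      refine Nat.dvd_antisymm (orderOf_dvd_of_pow_eq_one ((hscal t x hx0 ht _).2 ?_)) ?_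
      · rw [← orderOf_dvd_iff_pow_eq_one, hxo, ho', hi]; exact dvd_of_eq (by ring)
      · have h := (hscal t x hx0 ht (orderOf (Model.proj t))).1 (pow_orderOf_eq_one _)
        rw [← orderOf_dvd_iff_pow_eq_one, hxo, ho', hi] at h
        refine (Nat.mul_dvd_mul_iff_right (Nat.gcd_pos_of_pos_left _ (by omega) : 0 < d)).1 ?_
        rw [show N * i * d = N * (d * i) by ring]
        exact h
    exact exists_order_of_dvd _ (orderOf_pos _) (hpt ▸ dvd_mul_right N i)

end CfsgLib.UnitaryHalfTorus
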